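import Groth.Agent.L24.Alg.SourceFppf
import Groth.Agent.L19.FlatComp
import Mathlib.AlgebraicGeometry.Noetherian

/-!
Being locally Noetherian descends along fppf coverings.
-/

set_option autoImplicit false
set_option backward.isDefEq.respectTransparency false
set_option backward.isDefEq.respectTransparency.types false

universe u

open CategoryTheory CategoryTheory.Limits AlgebraicGeometry

namespace Groth.L24.Alg

theorem isLocallyNoetherian_of_fppf {X Y : Scheme.{u}} (f : X ⟶ Y) [Surjective f] [Flat f]
    [LocallyOfFinitePresentation f] [IsLocallyNoetherian X] : IsLocallyNoetherian Y := by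
  constructor
  intro V
  let χ := f ∣_ (V : Y.Opens)
  have : Surjective χ := IsZariskiLocalAtTarget.restrict (P := @Surjective) ‹Surjective f› _
  have : Flat χ := IsZariskiLocalAtTarget.restrict (P := @Flat) ‹Flat f› _
  have : LocallyOfFinitePresentation χ :=
    IsZariskiLocalAtTarget.restrict (P := @LocallyOfFinitePresentation) ‹LocallyOfFinitePresentation f› _
  have : IsAffine (V : Y.Opens) := V.2
  obtain ⟨n, W, hW, hs⟩ := exists_affine_refinement χ
  have : ∀ i, IsAffine (W i : Scheme.{u}) := hW
  let π : ∐ (fun i => (W i : Scheme.{u})) ⟶ (V : Y.Opens).toScheme := Sigma.desc fun i => (W i).ι ≫ χ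
  let ρ : ∐ (fun i => (W i : Scheme.{u})) ⟶ (f ⁻¹ᵁ (V : Y.Opens)).toScheme := Sigma.desc fun i => (W i).ι
  have : Flat π := IsZariskiLocalAtSource.sigmaDesc fun i => inferInstance
  have : LocallyOfFiniteType ρ := IsZariskiLocalAtSource.sigmaDesc fun i => inferInstance
  have : IsLocallyNoetherian (∐ fun i => (W i : Scheme.{u})) := LocallyOfFiniteType.isLocallyNoetherian ρ
  have : IsNoetherianRing Γ((∐ fun i => (W i : Scheme.{u})), ⊤) :=
    IsLocallyNoetherian.component_noetherian ⟨⊤, isAffineOpen_top _⟩
  have hq : π.appTop.hom.FaithfullyFlat :=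
    (Flat.flat_and_surjective_iff_faithfullyFlat_of_isAffine π).mp ⟨inferInstance, hs⟩
  algebraize [π.appTop.hom]
  have : Module.FaithfullyFlat Γ((V : Y.Opens).toScheme, ⊤) Γ((∐ fun i => (W i : Scheme.{u})), ⊤) := hq
  have := Groth.L19.isNoetherianRing_of_faithfullyFlat Γ((V : Y.Opens).toScheme, ⊤)
    Γ((∐ fun i => (W i : Scheme.{u})), ⊤)
  exact isNoetherianRing_of_ringEquiv _ (V : Y.Opens).topIso.commRingCatIsoToRingEquiv

end Groth.L24.Alg
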