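import Groth.Agent.L24.Alg.FlatFpDescent
import Mathlib.AlgebraicGeometry.Morphisms.Flat
import Mathlib.AlgebraicGeometry.Morphisms.FinitePresentation
import Mathlib.AlgebraicGeometry.Morphisms.UniversallyOpen
import Groth.Agent.L19.FlatComp
import Mathlib.AlgebraicGeometry.Sites.Fpqc

/-!
Fppf descent on the source of locally of finite type, locally of finite presentation and flatness.
-/

universe u

open CategoryTheory CategoryTheory.Limits AlgebraicGeometry

set_option backward.isDefEq.respectTransparency.types false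

namespace Groth.L24.Alg

/-- An affine scheme with an fppf cover has an affine fppf cover refining it. -/
lemma exists_affine_refinement {X' X : Scheme.{u}} (χ : X' ⟶ X) [Flat χ] [LocallyOfFinitePresentation χ] [Surjective χ] [IsAffine X] :
    ∃ (n : ℕ) (V : Fin n → X'.Opens), (∀ i, IsAffineOpen (V i)) ∧
      Surjective (Sigma.desc fun i => (V i).ι ≫ χ) := by
  have key : ∀ x : X, ∃ V : X'.Opens, IsAffineOpen V ∧ x ∈ χ '' V := fun x => by
    obtain ⟨x', rfl⟩ := χ.surjective x
    obtain ⟨_, ⟨V, hV, rfl⟩, hx, -⟩ :=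
      X'.isBasis_affineOpens.exists_subset_of_mem_open (Set.mem_univ x') isOpen_univ
    exact ⟨V, hV, x', hx, rfl⟩
  choose V hV hx using key
  obtain ⟨t, ht⟩ := isCompact_univ.elim_finite_subcover (fun x => χ '' (V x : Set X'))
    (fun x => χ.isOpenMap _ (V x).isOpen) (fun x _ => Set.mem_iUnion.2 ⟨x, hx x⟩)
  refine ⟨t.card, fun i => V (t.equivFin.symm i).1, fun i => hV _, ⟨fun x => ?_⟩⟩
  obtain ⟨y, hy, x', hx', rfl⟩ := Set.mem_iUnion₂.1 (ht (Set.mem_univ x))
  let W := fun i : Fin t.card => V (t.equivFin.symm i).1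
  have hi : V y = W (t.equivFin ⟨y, hy⟩) := by simp [W]
  refine ⟨Sigma.ι (fun i => (W i : Scheme.{u})) (t.equivFin ⟨y, hy⟩) ⟨x', hi ▸ hx'⟩, ?_⟩
  rw [← Scheme.Hom.comp_apply, Sigma.ι_desc]
  rfl

variable {P : MorphismProperty Scheme.{u}}
  {Q : ∀ {R S : Type u} [CommRing R] [CommRing S], (R →+* S) → Prop} [HasRingHomProperty P Q]

/-- A ring theoretic descent statement gives descent along fppf coverings on the source. -/
theorem of_fppf_surjective_comp
    (hQ : ∀ {A B C : Type u} [CommRing A] [CommRing B] [CommRing C] (φ : A →+* B) (ψ : B →+* C),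
      ψ.FinitePresentation → ψ.FaithfullyFlat → Q (ψ.comp φ) → Q φ)
    {X' X Y : Scheme.{u}} (χ : X' ⟶ X) (g : X ⟶ Y) [Flat χ] [LocallyOfFinitePresentation χ] [Surjective χ] (h : P (χ ≫ g)) :
    P g := by
  have : P.RespectsIso := inferInstance
  wlog hY : IsAffine Y generalizing X' X Y
  · rw [IsZariskiLocalAtTarget.iff_of_openCover (P := P) Y.affineCover]
    intro i
    have sq := IsPullback.of_hasPullback g (Y.affineCover.f i)
    have sq' := IsPullback.of_hasPullback χ (pullback.fst g (Y.affineCover.f i))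
    refine this (pullback.snd χ (pullback.fst g (Y.affineCover.f i))) _ ?_ (isAffine_Spec _)
    exact IsZariskiLocalAtTarget.of_isPullback (sq'.paste_vert sq) h
  wlog hX : IsAffine X generalizing X' X
  · rw [IsZariskiLocalAtSource.iff_of_openCover (P := P) X.affineCover]
    intro i
    refine this (pullback.snd χ (X.affineCover.f i)) _ ?_ (isAffine_Spec _)
    rw [← pullback.condition_assoc]
    exact IsZariskiLocalAtSource.comp h _
  obtain ⟨n, V, hV, hs⟩ := exists_affine_refinement χ
  have : ∀ i, IsAffine (V i : Scheme.{u}) := hV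
  let π : ∐ (fun i => (V i : Scheme.{u})) ⟶ X := Sigma.desc fun i => (V i).ι ≫ χ
  have hfl : Flat π := IsZariskiLocalAtSource.sigmaDesc fun i => inferInstance
  have he : LocallyOfFinitePresentation π := IsZariskiLocalAtSource.sigmaDesc fun i => inferInstance
  have hP : P (π ≫ g) := by
    have e : π ≫ g = Sigma.desc fun i => (V i).ι ≫ χ ≫ g := by
      ext i; simp [π]
    rw [e]
    exact IsZariskiLocalAtSource.sigmaDesc fun i => IsZariskiLocalAtSource.comp h _
  rw [HasRingHomProperty.iff_of_isAffine (P := P)] at hP ⊢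
  rw [Scheme.Hom.comp_appTop] at hP
  exact hQ g.appTop.hom π.appTop.hom ((HasRingHomProperty.iff_of_isAffine (P := @LocallyOfFinitePresentation)).1 he)
    ((Flat.flat_and_surjective_iff_faithfullyFlat_of_isAffine π).mp ⟨inferInstance, hs⟩) hP

variable {X' X Y : Scheme.{u}} (χ : X' ⟶ X) (g : X ⟶ Y) [Flat χ] [LocallyOfFinitePresentation χ] [Surjective χ]

theorem locallyOfFiniteType_of_fppf_comp (h : LocallyOfFiniteType (χ ≫ g)) : LocallyOfFiniteType g :=
  of_fppf_surjective_comp (P := @LocallyOfFiniteType) (fun {A B C} _ _ _ φ ψ hp hf hQ => by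
    algebraize [φ, ψ, ψ.comp φ]
    exact RingHom.finiteType_algebraMap.2 (finiteType_of_flat_comp (A := A) (B := B) (C := C))) χ g h

theorem locallyOfFinitePresentation_of_fppf_comp (h : LocallyOfFinitePresentation (χ ≫ g)) :
    LocallyOfFinitePresentation g :=
  of_fppf_surjective_comp (P := @LocallyOfFinitePresentation) (fun {A B C} _ _ _ φ ψ hp hf hQ => by
    algebraize [φ, ψ, ψ.comp φ]
    exact finitePresentation_of_flat_comp (A := A) (B := B) (C := C)) χ g h

theorem isLocalAtSource_fppf (P : MorphismProperty Scheme.{u}) [P.IsStableUnderComposition]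
    [IsZariskiLocalAtSource P]
    (hle : ∀ {W X : Scheme.{u}} (ψ : W ⟶ X), LocallyOfFinitePresentation ψ → Flat ψ → P ψ)
    (hdesc : ∀ {W X Y : Scheme.{u}} (χ : W ⟶ X) (k : X ⟶ Y) [Flat χ] [LocallyOfFinitePresentation χ]
      [Surjective χ], P (χ ≫ k) → P k) :
    P.IsLocalAtSource Scheme.fppfPrecoverage := by
  refine MorphismProperty.IsLocalAtSource.mk_of_iff fun {X Y} f R hR => ?_
  obtain ⟨𝒰, rfl⟩ := R.exists_eq_preZeroHypercover
  obtain ⟨hs, hP⟩ := (Scheme.ofArrows_mem_precoverage_iff _).1 hR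
  constructor
  · rintro h _ _ ⟨i⟩
    exact P.comp_mem _ _ (hle _ (hP i).2 (hP i).1) h
  · intro h
    choose i hi using hs
    let π : ∐ (fun x : X => 𝒰.X (i x)) ⟶ X := Sigma.desc fun x => 𝒰.f (i x)
    have h1 : Flat π := IsZariskiLocalAtSource.sigmaDesc fun x => (hP (i x)).1
    have h2 : LocallyOfFinitePresentation π := IsZariskiLocalAtSource.sigmaDesc fun x => (hP (i x)).2
    have h3 : Surjective π := ⟨fun x => by
      obtain ⟨w, hw⟩ := hi x
      exact ⟨Sigma.ι (fun x : X => 𝒰.X (i x)) x w, by rw [← Scheme.Hom.comp_apply, Sigma.ι_desc, hw]⟩⟩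
    refine hdesc π f ?_
    rw [show π ≫ f = Sigma.desc fun x => 𝒰.f (i x) ≫ f from by ext x; simp [π]]
    exact IsZariskiLocalAtSource.sigmaDesc fun x => h ⟨i x⟩

theorem isLocalAtSource_fppf_lft :
    MorphismProperty.IsLocalAtSource (@LocallyOfFiniteType : MorphismProperty Scheme.{u}) Scheme.fppfPrecoverage :=
  isLocalAtSource_fppf _ (fun _ h _ => inferInstance)
    (fun χ k _ _ _ h => locallyOfFiniteType_of_fppf_comp χ k h)

theorem isLocalAtSource_fppf_lfp :
    MorphismProperty.IsLocalAtSource (@LocallyOfFinitePresentation : MorphismProperty Scheme.{u}) Scheme.fppfPrecoverage :=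
  isLocalAtSource_fppf _ (fun _ h _ => h)
    (fun χ k _ _ _ h => locallyOfFinitePresentation_of_fppf_comp χ k h)

end Groth.L24.Alg
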