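import Groth.Agent.L24.Alg.SpaceSource
import Mathlib.RingTheory.RingHom.FaithfullyFlat

/-!
Flatness is local on the source for the fpqc precoverage.
-/

universe u

open CategoryTheory CategoryTheory.Limits AlgebraicGeometry

set_option backward.isDefEq.respectTransparency false
set_option backward.isDefEq.respectTransparency.types false

namespace Groth.L24.Alg

theorem flat_of_flat_comp_local {A B C : CommRingCat.{u}} (a : A ⟶ B) (b : B ⟶ C) [IsLocalRing B]
    [IsLocalRing C] (hb : b.hom.Flat) [IsLocalHom b.hom] (h : (a ≫ b).hom.Flat) : a.hom.Flat := by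
  algebraize [a.hom, b.hom, (a ≫ b).hom]
  have : IsScalarTower A B C := .of_algebraMap_eq fun _ => rfl
  have : Module.FaithfullyFlat B C := Module.FaithfullyFlat.of_flat_of_isLocalHom
  exact RingHom.flat_algebraMap_iff.2 (Groth.L19.flat_of_flat_of_faithfullyFlat A B C)

theorem isLocalAtSource_fpqc_flat :
    MorphismProperty.IsLocalAtSource (@Flat : MorphismProperty Scheme.{u}) Scheme.fpqcPrecoverage := by
  refine MorphismProperty.IsLocalAtSource.mk_of_iff fun {X Y} f R hR => ?_
  have hR' := (Scheme.propQCPrecoverage_le_precoverage (P := @Flat)) X hR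
  obtain ⟨𝒰, rfl⟩ := R.exists_eq_preZeroHypercover
  obtain ⟨hs, hP⟩ := (Scheme.ofArrows_mem_precoverage_iff _).1 hR'
  constructor
  · rintro h _ _ ⟨i⟩
    have := hP i
    infer_instance
  · intro h
    refine Flat.of_stalkMap f fun x => ?_
    obtain ⟨i, w, rfl⟩ := hs x
    have := hP i
    refine flat_of_flat_comp_local (f.stalkMap _) ((𝒰.f i).stalkMap w) (Flat.stalkMap _ w) ?_
    rw [← Scheme.Hom.stalkMap_comp]
    have := h ⟨i⟩
    exact Flat.stalkMap _ w

end Groth.L24.Alg
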