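import Groth.Agent.L24.St.LocPFppf
import Groth.Agent.L23.MorCalc

/-!
Quasi-compact, quasi-separated, separated, universally closed and proper morphisms of algebraic
spaces are fppf local on the base.
-/

set_option autoImplicit false
set_option backward.isDefEq.respectTransparency false
set_option backward.isDefEq.respectTransparency.types false

universe u

open CategoryTheory CategoryTheory.Limits AlgebraicGeometry Opposite AlgSp

namespace Groth.L24.Alg

variable {S : Scheme.{u}}

attribute [local simp] pullback.lift_fst pullback.lift_snd pullback.lift_fst_assoc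
  pullback.lift_snd_assoc

/-- An fppf covering is refined over an affine scheme by finitely many affine schemes. -/
theorem exists_affine_family {ι : Type u} {Y : Sp S} {Yi : ι → Sp S} {g : ∀ i, Yi i ⟶ Y}
    (hY : IsAlgSpace Y) (hYi : ∀ i, IsAlgSpace (Yi i)) (hcov : IsFppfCover Yi g) {W : Over S}
    [IsAffine W.left] (k : (yon S).obj W ⟶ Y) :
    ∃ (J : Type u) (_ : Finite J) (A : J → Over S) (e : ∀ j, A j ⟶ W) (i : J → ι)
      (l : ∀ j, (yon S).obj (A j) ⟶ Yi (i j)),
      (∀ j, IsAffine (A j).left) ∧ (∀ j, IsOpenMap (e j).left) ∧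
      (∀ j, l j ≫ g (i j) = (yon S).map (e j) ≫ k) ∧ ∀ t : ↥W.left, ∃ j, t ∈ Set.range (e j).left := by
  obtain ⟨W', v, l, hl, hvf, hvp, hvs⟩ := Groth.L24.St.exists_scheme_cover hY hYi hcov k
  choose i w hw using hvs
  have hB : ∀ t, ∃ B : (W' (i t)).left.Opens, IsAffineOpen B ∧ w t ∈ B := fun t => by
    obtain ⟨_, ⟨B, hB, rfl⟩, hwB, -⟩ :=
      (W' (i t)).left.isBasis_affineOpens.exists_subset_of_mem_open (Set.mem_univ (w t)) isOpen_univ
    exact ⟨B, hB, hwB⟩
  choose B hB hwB using hB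
  have hop : ∀ t, IsOpenMap ((v (i t)).left) := fun t => by
    have := hvf (i t); have := hvp (i t); exact (v (i t)).left.isOpenMap
  obtain ⟨s, hs⟩ := isCompact_univ.elim_finite_subcover (fun t => (v (i t)).left '' (B t : Set _))
    (fun t => hop t _ (B t).isOpen) (fun t _ => Set.mem_iUnion.2 ⟨t, w t, hwB t, hw t⟩)
  refine ⟨s, inferInstance, fun j => Over.mk ((B j.1).ι ≫ (W' (i j.1)).hom),
    fun j => (Over.homMk (B j.1).ι rfl : Over.mk ((B j.1).ι ≫ (W' (i j.1)).hom) ⟶ W' (i j.1)) ≫ v (i j.1),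
    fun j => i j.1, fun j => (yon S).map (Over.homMk (B j.1).ι rfl :
      Over.mk ((B j.1).ι ≫ (W' (i j.1)).hom) ⟶ W' (i j.1)) ≫ l (i j.1),
    fun j => hB j.1, fun j => ?_, fun j => by simp [← hl], fun t => ?_⟩
  · rw [Over.comp_left, Scheme.Hom.comp_base]
    exact (hop j.1).comp (B j.1).ι.isOpenEmbedding.isOpenMap
  · obtain ⟨t', ht', x, hx, rfl⟩ := Set.mem_iUnion₂.1 (hs (Set.mem_univ t))
    exact ⟨⟨t', ht'⟩, ⟨x, hx⟩, rfl⟩

theorem isLocalOnBase_fppf_qcMor : IsLocalOnBase (S := S) IsFppfCover IsQuasiCompactMor := by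
  intro ι Y Yi g hY hYi hcov X f hX Xi p q hXi sq
  refine ⟨fun h i => Groth.L23.qcMor_of_isPullback (sq i) h, fun h => ?_⟩
  refine Groth.L23.isQuasiCompactMor_of_affine hX hY fun W hW k => ?_
  have : IsAffine W.left := hW
  obtain ⟨J, hJ, A, e, i, l, hA, -, hl, hs⟩ := exists_affine_family hY hYi hcov k
  have hWS : IsAlgSpace (pullback f k) :=
    Groth.L24.St.isAlgSpace_pullback hX (IsAlgSpace.yon_obj W) hY _ _
  refine Groth.L23.qcSp_of_compactSpace hWS ⟨?_⟩
  let φ : ∀ j, pullback (p (i j)) (l j) ⟶ pullback f k := fun j =>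
    pullback.lift (pullback.fst _ _ ≫ q (i j)) (pullback.snd _ _ ≫ (yon S).map (e j)) (by
      rw [Category.assoc, (sq (i j)).w, pullback.condition_assoc, Category.assoc, hl])
  have hsq : ∀ j, IsPullback (φ j) (pullback.snd (p (i j)) (l j)) (pullback.snd f k) ((yon S).map (e j)) :=
    fun j => IsPullback.of_right (by
      simpa only [φ, pullback.lift_fst, hl] using (IsPullback.of_hasPullback (p (i j)) (l j)).paste_horiz (sq (i j)))
      (pullback.lift_snd _ _ _) (IsPullback.of_hasPullback f k)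
  have hu : (Set.univ : Set (Points (pullback f k))) = ⋃ j, Set.range (Points.map (φ j)) := by
    refine (Set.eq_univ_of_forall fun x => Set.mem_iUnion.2 ?_).symm
    obtain ⟨j, a, ha⟩ := hs (Points.toScheme W (Points.map (pullback.snd f k) x))
    obtain ⟨z, hz, -⟩ := Groth.L23.exists_of_isPullback (hsq j) x (Points.ofScheme (A j) a) (by
      rw [← Points.ofPt_eq_map_ofScheme, Groth.L23.ofPt_map, ha, Points.ofScheme_toScheme])
    exact ⟨j, z, hz⟩
  rw [hu]
  refine isCompact_iUnion fun j => ?_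
  have : IsAffine (A j).left := hA j
  have := Groth.L23.compactSpace_of_qcSp (Groth.L23.isQuasiCompactMor_of_pullback (h (i j)) (l j))
  exact isCompact_range (Points.continuous_map _)

theorem isLocalOnBase_fppf_univClosed : IsLocalOnBase (S := S) IsFppfCover IsUnivClosedMor := by
  intro ι Y Yi g hY hYi hcov X f hX Xi p q hXi sq
  refine ⟨fun h i => Groth.L23.univSp_of_isPullback (sq i) h, fun h => ?_⟩
  refine (Groth.L23.isUnivClosedMor_iff_affine f).2 fun W hW k C hC => ?_
  have : IsAffine W.left := hW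
  obtain ⟨J, hJ, A, e, i, l, hA, ho, hl, hs⟩ := exists_affine_family hY hYi hcov k
  suffices H : IsClosed (Points.schemeHomeo W ⁻¹' (Points.map (pullback.snd f k) '' C)) from
    (Points.schemeHomeo W).isClosed_preimage.1 H
  rw [← isOpen_compl_iff]
  let D := (Points.schemeHomeo W ⁻¹' (Points.map (pullback.snd f k) '' C))ᶜ
  have hD : D = ⋃ j, (e j).left '' ((e j).left ⁻¹' D) := by
    refine Set.Subset.antisymm (fun t ht => ?_) (Set.iUnion_subset fun j => Set.image_preimage_subset _ _)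
    obtain ⟨j, a, rfl⟩ := hs t
    exact Set.mem_iUnion.2 ⟨j, a, ht, rfl⟩
  change IsOpen D
  rw [hD]
  refine isOpen_iUnion fun j => ho j _ ?_
  let φ : pullback (p (i j)) (l j) ⟶ pullback f k :=
    pullback.lift (pullback.fst _ _ ≫ q (i j)) (pullback.snd _ _ ≫ (yon S).map (e j)) (by
      rw [Category.assoc, (sq (i j)).w, pullback.condition_assoc, Category.assoc, hl])
  have hsq : IsPullback φ (pullback.snd (p (i j)) (l j)) (pullback.snd f k) ((yon S).map (e j)) :=
    IsPullback.of_right (by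
      simpa only [φ, pullback.lift_fst, hl] using (IsPullback.of_hasPullback (p (i j)) (l j)).paste_horiz (sq (i j)))
      (pullback.lift_snd _ _ _) (IsPullback.of_hasPullback f k)
  have hc : IsClosed (Points.schemeHomeo (A j) ⁻¹'
      (Points.map (pullback.snd (p (i j)) (l j)) '' (Points.map φ ⁻¹' C))) :=
    (h (i j) (IsAlgSpace.yon_obj (A j)) (l j) _ _ (IsPullback.of_hasPullback _ _) _
      (hC.preimage (Points.continuous_map φ))).preimage (Points.schemeHomeo (A j)).continuous
  rw [← Groth.L23.ofPt_preimage_image _ hsq, Groth.L23.ofPt_eq_comp] at hc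
  rw [show (e j).left ⁻¹' D = (Points.schemeHomeo (A j) ⁻¹'
      (Points.map ((yon S).map (e j)) ⁻¹' (Points.map (pullback.snd f k) '' C)))ᶜ by
    ext a
    simp only [D, Set.mem_preimage, Set.mem_compl_iff, Points.map_yon_map_apply]]
  exact hc.isOpen_compl

theorem repWith_diagonal_of_fppfCover {Q : MorphismProperty Scheme.{u}} [Q.IsStableUnderBaseChange]
    [Q.IsLocalAtTarget Scheme.fppfPrecoverage]
    {ι : Type u} {Y : Sp S} {Yi : ι → Sp S} {g : ∀ i, Yi i ⟶ Y} (hY : IsAlgSpace Y)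
    (hYi : ∀ i, IsAlgSpace (Yi i)) (hcov : IsFppfCover Yi g) {X : Sp S} {f : X ⟶ Y} (hX : IsAlgSpace X)
    {Xi : ι → Sp S} {p : ∀ i, Xi i ⟶ Yi i} {q : ∀ i, Xi i ⟶ X}
    (sq : ∀ i, IsPullback (q i) (p i) f (g i)) (h : ∀ i, RepWith Q (pullback.diagonal (p i))) :
    RepWith Q (pullback.diagonal f) := by
  have hd := (Groth.L23.diagonal_properties hX f).1
  refine Groth.L23.repWith_of_snd hd fun T m => ?_
  obtain ⟨W, v, l, hl, hvf, hvp, hvs⟩ :=
    Groth.L24.St.exists_scheme_cover hY hYi hcov (m ≫ pullback.fst f f ≫ f)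
  have hK : Presieve.ofArrows (fun i => (W i).left) (fun i => (v i).left) ∈ Scheme.fppfPrecoverage T.left :=
    (Scheme.ofArrows_mem_precoverage_iff _).2 ⟨hvs, fun i => ⟨hvf i, hvp i⟩⟩
  refine MorphismProperty.IsLocalAtTarget.of_forall_pullbackSnd hK ?_
  rintro _ _ _ ⟨i⟩
  have sq₀ := IsPullback.of_hasPullback (hd.snd m) (v i)
  have sq₁ := (sq₀.map (yon S)).paste_horiz (hd.isPullback m)
  let n : (yon S).obj (W i) ⟶ pullback.diagonalObj (p i) := pullback.lift
    ((sq i).lift (((yon S).map (v i) ≫ m) ≫ pullback.fst f f) (l i) (by simpa using hl i))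
    ((sq i).lift (((yon S).map (v i) ≫ m) ≫ pullback.snd f f) (l i) (by
      simpa [pullback.condition] using hl i))
    (by simp)
  have hn : n ≫ Groth.L23.diagComp (sq i) = (yon S).map (v i) ≫ m := by
    apply pullback.hom_ext <;> simp [n]
  rw [← hn] at sq₁
  let k := (Groth.L23.isPullback_diagonal (sq i)).lift ((yon S).map (pullback.fst (hd.snd m) (v i)) ≫ hd.fst m)
    ((yon S).map (pullback.snd (hd.snd m) (v i)) ≫ n) (by simpa using sq₁.w)
  have sq₂ : IsPullback k ((yon S).map (pullback.snd (hd.snd m) (v i))) (pullback.diagonal (p i)) n := by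
    refine IsPullback.of_right ?_ ((Groth.L23.isPullback_diagonal (sq i)).lift_snd _ _ _)
      (Groth.L23.isPullback_diagonal (sq i))
    rwa [(Groth.L23.isPullback_diagonal (sq i)).lift_fst]
  have hq := Groth.L23.repWith_prop (h i) sq₂
  have sq₃ := sq₀.map (Over.forget S)
  refine (Q.cancel_left_of_respectsIso sq₃.isoPullback.hom _).1 ?_
  have e : sq₃.isoPullback.hom ≫ pullback.snd (hd.snd m).left (v i).left =
      (pullback.snd (hd.snd m) (v i)).left := sq₃.isoPullback_hom_snd
  exact e ▸ hq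

theorem isLocalOnBase_fppf_separated : IsLocalOnBase (S := S) IsFppfCover AlgSp.IsSeparatedMor := by
  intro ι Y Yi g hY hYi hcov X f hX Xi p q hXi sq
  have : MorphismProperty.IsLocalAtTarget @IsClosedImmersion Scheme.fppfPrecoverage.{u} :=
    Groth.L23.isLocalAtTarget_fppf _
  exact ⟨fun h i => Groth.L23.separated_of_isPullback (sq i) h,
    fun h => repWith_diagonal_of_fppfCover hY hYi hcov hX sq h⟩

theorem qsMor_of_isPullback {X Y X' Y' : Sp S} {f : X ⟶ Y} {a : X' ⟶ X} {b : Y' ⟶ Y}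
    {f' : X' ⟶ Y'} (sq : IsPullback a f' f b) (h : IsQuasiSeparatedMor f) : IsQuasiSeparatedMor f' :=
  Groth.L23.repWith_of_isPullback (Groth.L23.isPullback_diagonal sq) h

theorem isLocalOnBase_fppf_qsMor : IsLocalOnBase (S := S) IsFppfCover AlgSp.IsQuasiSeparatedMor := by
  intro ι Y Yi g hY hYi hcov X f hX Xi p q hXi sq
  have : MorphismProperty.IsLocalAtTarget @QuasiCompact Scheme.fppfPrecoverage.{u} :=
    Groth.L23.isLocalAtTarget_fppf _
  exact ⟨fun h i => qsMor_of_isPullback (sq i) h,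
    fun h => repWith_diagonal_of_fppfCover hY hYi hcov hX sq h⟩

theorem isLocalOnBase_fppf_proper : IsLocalOnBase (S := S) IsFppfCover AlgSp.IsProperMor := by
  intro ι Y Yi g hY hYi hcov X f hX Xi p q hXi sq
  refine ⟨fun h i => Groth.L23.isProperMor_of_isPullback hX hY (hYi i) (sq i) h, fun h => ⟨?_, ⟨?_, ?_⟩, ?_⟩⟩
  · exact (isLocalOnBase_fppf_separated Yi g hY hYi hcov f hX Xi p q hXi sq).2 fun i => (h i).1
  · exact (Groth.L24.St.isLocalOnBase_locP_fppf Groth.L23.etLocal_lft Yi g hY hYi hcov f hX Xi p q hXi sq).2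
      fun i => (h i).2.1.1
  · exact (isLocalOnBase_fppf_qcMor Yi g hY hYi hcov f hX Xi p q hXi sq).2 fun i => (h i).2.1.2
  · exact (isLocalOnBase_fppf_univClosed Yi g hY hYi hcov f hX Xi p q hXi sq).2 fun i => (h i).2.2

end Groth.L24.Alg
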