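import Groth.Agent.L23.LocP
import Groth.Prelude.Def_AlgSpCov
import Groth.Agent.L19.FlatComp
import Groth.Agent.L24.Alg.SourceFppf

/-!
Properties of schemes local on the source give properties of algebraic spaces local on the source.
-/

set_option autoImplicit false
set_option backward.isDefEq.respectTransparency false
set_option backward.isDefEq.respectTransparency.types false

universe u

open CategoryTheory CategoryTheory.Limits AlgebraicGeometry Opposite AlgSp Topology

namespace Groth.L24.Alg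

variable {S : Scheme.{u}} {P Q : MorphismProperty Scheme.{u}}

/-- Precomposition with a morphism having `Q` keeps `LocP P`. -/
theorem locP_precomp_of (hQ : Groth.L23.EtLocal Q)
    (hcomp : ∀ {T X Y : Scheme.{u}} (m : T ⟶ X) (k : X ⟶ Y), Q m → P k → P (m ≫ k))
    (hdesc : ∀ {T X Y : Scheme.{u}} (χ : T ⟶ X) (k : X ⟶ Y), Etale χ → Surjective χ → P (χ ≫ k) → P k)
    {W X Y : Sp S} (hW : IsAlgSpace W) (hX : IsAlgSpace X) (hY : IsAlgSpace Y) {g : W ⟶ X} {f : X ⟶ Y}
    (hg : LocP Q g) (hf : LocP P f) : LocP P (g ≫ f) := by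
  intro U' V' a' b' h' ha' hb' w
  let r := pullback.lift (f := f) (g := b') (a' ≫ g) ((yon S).map h') (by rw [Category.assoc]; exact w)
  have hU' := IsAlgSpace.yon_obj U'
  have hZ : IsAlgSpace (pullback f b') :=
    Groth.L23.isAlgSpace_of_isPullback hY.diag hX (IsAlgSpace.yon_obj V') (IsPullback.of_hasPullback f b')
  have hfst : RepWith @Etale (pullback.fst f b') :=
    Groth.L23.repWith_of_isPullback (IsPullback.of_hasPullback f b').flip hb'
  have hr : LocP Q r := by
    refine Groth.L23.locP_of_comp_of_locP (g := pullback.fst f b') hQ (Q := @Etale)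
      (fun φ ψ (h1 : Etale ψ) h2 => have := h1; hQ.of_comp_etale φ ψ h2) hU' hZ hX ?_
      (Groth.L23.locP_of_repWith Groth.L23.etLocal_etale hfst)
    rw [pullback.lift_fst]
    exact Groth.L23.locP_comp hQ hU' hW hX
      (Groth.L23.locP_mono (fun φ hφ => hQ.etale φ hφ) (Groth.L23.locP_of_repWith Groth.L23.etLocal_etale ha')) hg
  obtain ⟨U₂, a₂, ha₂, has₂⟩ := hZ.atlas
  obtain ⟨k₂, hk₂⟩ := (yon S).map_surjective (a₂ ≫ pullback.snd f b')
  have hP₂ : P k₂.left := hf (a₂ ≫ pullback.fst f b') b' k₂ (Groth.L23.repWith_comp ha₂ hfst) hb'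
    (by rw [hk₂, Category.assoc, Category.assoc, pullback.condition])
  obtain ⟨T, p, q, sq⟩ := Groth.L23.exists_isPullback_of_representable ha₂.1 r
  have hp : Q p.left := Groth.L23.locP_of_isPullback hQ hU' hZ (IsAlgSpace.yon_obj U₂) sq.flip hr
    (𝟙 _) (𝟙 _) p (AlgSp.repWith_id _ T) (AlgSp.repWith_id _ U₂) (by simp)
  have e : p ≫ k₂ = q ≫ h' := (yon S).map_injective (by
    rw [(yon S).map_comp, (yon S).map_comp, hk₂, reassoc_of% sq.w, pullback.lift_snd])
  refine hdesc q.left h'.left (Groth.L23.repWith_prop ha₂ sq) (Groth.L23.repWith_prop has₂ sq) ?_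
  rw [← Over.comp_left, ← e]
  exact hcomp _ _ hp hP₂

/-- The maps to a chart induced by a family with `Q`. -/
theorem exists_chart_family {ι : Type u} {X : Sp S} {Xi : ι → Sp S} {g : ∀ i, Xi i ⟶ X} (hX : IsAlgSpace X)
    (hXi : ∀ i, IsAlgSpace (Xi i)) (hQ : Groth.L23.EtLocal Q) (hg : ∀ i, LocP Q (g i)) {U : Over S}
    {a : (yon S).obj U ⟶ X} (ha : RepWith @Etale a) :
    ∃ (W : ι → Over S) (v : ∀ i, W i ⟶ U) (c : ∀ i, (yon S).obj (W i) ⟶ pullback (g i) a),
      (∀ i, RepWith @Etale (c i) ∧ RepWith @Surjective (c i)) ∧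
      (∀ i, RepWith @Etale (c i ≫ pullback.fst (g i) a)) ∧
      (∀ i, (yon S).map (v i) = c i ≫ pullback.snd (g i) a) ∧ ∀ i, Q (v i).left := by
  have hZ : ∀ i, IsAlgSpace (pullback (g i) a) := fun i =>
    Groth.L23.isAlgSpace_of_isPullback hX.diag (hXi i) (IsAlgSpace.yon_obj U) (IsPullback.of_hasPullback (g i) a)
  choose W c hc hcs using fun i => (hZ i).atlas
  choose v hv using fun i => (yon S).map_surjective (c i ≫ pullback.snd (g i) a)
  refine ⟨W, v, c, fun i => ⟨hc i, hcs i⟩, fun i => Groth.L23.repWith_comp (hc i)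
    (Groth.L23.repWith_of_isPullback (IsPullback.of_hasPullback (g i) a).flip ha), hv, fun i => ?_⟩
  exact Groth.L23.locP_of_isPullback hQ (hXi i) hX (IsAlgSpace.yon_obj U)
    (IsPullback.of_hasPullback (g i) a) (hg i) (c i) (𝟙 _) (v i) (hc i) (AlgSp.repWith_id _ U) (by simp [hv i])

theorem range_of_family {ι : Type u} {X : Sp S} {Xi : ι → Sp S} {g : ∀ i, Xi i ⟶ X} {U : Over S}
    {a : (yon S).obj U ⟶ X} {W : ι → Over S} {v : ∀ i, W i ⟶ U}
    {c : ∀ i, (yon S).obj (W i) ⟶ pullback (g i) a} (hcs : ∀ i, RepWith @Surjective (c i))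
    (hv : ∀ i, (yon S).map (v i) = c i ≫ pullback.snd (g i) a)
    (hs : ∀ x : Points X, ∃ i, x ∈ Set.range (Points.map (g i))) (t : ↥U.left) :
    ∃ i, t ∈ Set.range (v i).left := by
  obtain ⟨i, y, hy⟩ := hs (Points.ofPt a t)
  obtain ⟨p, hp₁, hp₂⟩ := Groth.L23.exists_of_isPullback (IsPullback.of_hasPullback (g i) a) y
    (Points.ofScheme U t) (hy.trans (Points.ofPt_eq_map_ofScheme a t))
  obtain ⟨w, rfl⟩ := Groth.L23.surjective_ofPt (hcs i) p
  refine ⟨i, w, ?_⟩
  apply (Points.schemeEquiv U).injective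
  change Points.ofScheme U ((v i).left w) = Points.ofScheme U t
  rw [← Groth.L23.ofPt_map, hv, ← Points.map_ofPt]
  exact hp₂

/-- Locality on the source from descent along the families induced on charts. -/
theorem isLocalOnSource_of (hQ : Groth.L23.EtLocal Q) {τ : CovNotion S}
    (K : Precoverage Scheme.{u}) [hP : P.IsLocalAtSource K]
    (hQid : ∀ {T X : Scheme.{u}} (m : T ⟶ X), Q m →
      ∃ R : Presieve X, R ∈ K X ∧ R m)
    (hτ : ∀ {ι : Type u} {X : Sp S} (Xi : ι → Sp S) (g : ∀ i, Xi i ⟶ X), τ Xi g → ∀ i, LocP Q (g i))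
    (hcov : ∀ {ι : Type u} {X : Sp S} (Xi : ι → Sp S) (g : ∀ i, Xi i ⟶ X), IsAlgSpace X →
      (∀ i, IsAlgSpace (Xi i)) → τ Xi g → ∀ {U : Over S} (a : (yon S).obj U ⟶ X), RepWith @Etale a →
      ∀ (W : ι → Over S) (v : ∀ i, W i ⟶ U) (c : ∀ i, (yon S).obj (W i) ⟶ pullback (g i) a),
        (∀ i, RepWith @Etale (c i) ∧ RepWith @Surjective (c i)) →
        (∀ i, (yon S).map (v i) = c i ≫ pullback.snd (g i) a) → (∀ i, Q (v i).left) →
        Presieve.ofArrows (fun i => (W i).left) (fun i => (v i).left) ∈ K U.left)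
    (hetale : ∀ {T X : Scheme.{u}} (χ : T ⟶ X), Etale χ → Surjective χ → Presieve.singleton χ ∈ K X) :
    IsLocalOnSource τ (LocP P) := by
  have hcomp : ∀ {T X Y : Scheme.{u}} (m : T ⟶ X) (k : X ⟶ Y), Q m → P k → P (m ≫ k) := fun m k hm hk => by
    obtain ⟨R, hR, hmR⟩ := hQid m hm
    exact MorphismProperty.IsLocalAtSource.comp hR m hmR hk
  intro ι X Xi g hX hXi hg Y f hY
  refine ⟨fun hf i => locP_precomp_of hQ hcomp (fun χ k h1 h2 h3 =>
    MorphismProperty.IsLocalAtSource.of_forall_comp (hetale χ h1 h2) fun _ _ hu => by cases hu; exact h3)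
    (hXi i) hX hY (hτ Xi g hg i) hf, fun h => ?_⟩
  intro U V a b k ha hb w
  obtain ⟨W, v, c, hc, hcX, hv, hvQ⟩ := exists_chart_family hX hXi hQ (hτ Xi g hg) ha
  refine MorphismProperty.IsLocalAtSource.of_forall_comp (hcov Xi g hX hXi hg a ha W v c hc hv hvQ) ?_
  rintro _ _ ⟨i⟩
  rw [← Over.comp_left]
  refine h i (c i ≫ pullback.fst (g i) a) b (v i ≫ k) (hcX i) hb ?_
  rw [Category.assoc, pullback.condition_assoc, w, (yon S).map_comp, hv i, Category.assoc, Category.assoc]

/-- For precoverages given by a property of the members and joint surjectivity. -/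
theorem isLocalOnSource_isCover (hQ : Groth.L23.EtLocal Q) {R : MorphismProperty (Sp S)}
    (hR : ∀ {A B : Sp S} (g : A ⟶ B), IsAlgSpace A → IsAlgSpace B → R g → LocP Q g)
    [P.IsLocalAtSource (Scheme.precoverage Q)] :
    IsLocalOnSource (fun {_} {_} Y g => IsCover R Y g) (LocP P) := by
  intro ι X Xi g hX hXi hg Y f hY
  have := isLocalOnSource_of (S := S) (P := P) (Q := Q) hQ
    (τ := fun {_} {X'} Y' g' => (∀ i, LocP Q (g' i)) ∧ ∀ x : Points X', ∃ i, x ∈ Set.range (Points.map (g' i)))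
    (Scheme.precoverage Q) ?_ (fun _ _ h => h.1) ?_ ?_
  · exact this Xi g hX hXi ⟨fun i => hR (g i) (hXi i) hX (hg.1 i), hg.2⟩ f hY
  · intro T X m hm
    let A : Option PUnit.{u + 1} → Scheme.{u} := fun i => i.elim X fun _ => T
    let l : ∀ i, A i ⟶ X := fun i => match i with
      | none => 𝟙 X
      | some _ => m
    refine ⟨Presieve.ofArrows A l, ?_, Presieve.ofArrows.mk (some PUnit.unit)⟩
    rw [Scheme.ofArrows_mem_precoverage_iff]
    refine ⟨fun x => ⟨none, x, rfl⟩, fun i => ?_⟩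
    match i with
    | none => exact hQ.etale (𝟙 X) inferInstance
    | some _ => exact hm
  · intro ι' X' Xi' g' _ _ hg' U a _ W v c hc hv hvQ
    exact (Scheme.ofArrows_mem_precoverage_iff _).2 ⟨range_of_family (fun i => (hc i).2) hv hg'.2, hvQ⟩
  · intro T X χ h1 h2
    exact (Scheme.singleton_mem_precoverage_iff (P := Q) χ).2 ⟨h2.surj, hQ.etale χ h1⟩

theorem isLocalOnSource_fppf (h : P.IsLocalAtSource Scheme.fppfPrecoverage) :
    IsLocalOnSource (IsFppfCover (S := S)) (LocP P) :=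
  @isLocalOnSource_isCover _ P _ (Groth.L23.etLocal_flat.inf Groth.L23.etLocal_lfp) _
    (fun _ _ _ hg _ _ a b k ha hb w => ⟨hg.1 a b k ha hb w, hg.2 a b k ha hb w⟩) h

theorem isLocalOnSource_smooth (h : P.IsLocalAtSource (Scheme.precoverage @Smooth)) :
    IsLocalOnSource (IsSmCover (S := S)) (LocP P) :=
  @isLocalOnSource_isCover _ P _ Groth.L23.etLocal_smooth _ (fun _ _ _ hg => hg) h

theorem isLocalOnSource_etale (h : P.IsLocalAtSource Scheme.etalePrecoverage) :
    IsLocalOnSource (IsEtCover (S := S)) (LocP P) :=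
  @isLocalOnSource_isCover _ P _ Groth.L23.etLocal_etale _
    (fun g hA hB hg => (Groth.L23.isEtaleMor_iff_locP hA hB g).1 hg) h

theorem exists_compact_open_lift {Z : Sp S} {W W' : Over S}
    {c : (yon S).obj W ⟶ Z} (hc : RepWith @Etale c) (hcs : RepWith @Surjective c)
    (m : (yon S).obj W' ⟶ Z) [IsAffine W'.left] (O : Set ↥W.left) (hO : IsOpen O)
    (hm : ∀ w w', Points.ofPt c w = Points.ofPt m w' → w ∈ O) :
    ∃ V : W.left.Opens, IsCompact (V : Set ↥W.left) ∧ (V : Set ↥W.left) ⊆ O ∧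
      ∀ w', ∃ w ∈ (V : Set ↥W.left), Points.ofPt c w = Points.ofPt m w' := by
  obtain ⟨T, p, q, sq⟩ := Groth.L23.exists_isPullback_of_representable hc.1 m
  have : Etale q.left := Groth.L23.repWith_prop hc sq
  have : Surjective q.left := Groth.L23.repWith_prop hcs sq
  have hpq : ∀ t, Points.ofPt c (p.left t) = Points.ofPt m (q.left t) := fun t => by
    rw [← Groth.L23.ofPt_comp, ← Groth.L23.ofPt_comp, sq.w]
  -- finitely many affine opens of `W` meet every fibre
  have key : ∀ w' : ↥W'.left, ∃ (B : W.left.Opens) (A : Set ↥W'.left), IsCompact (B : Set ↥W.left) ∧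
      (B : Set ↥W.left) ⊆ O ∧ IsOpen A ∧ w' ∈ A ∧
      ∀ x ∈ A, ∃ w ∈ (B : Set ↥W.left), Points.ofPt c w = Points.ofPt m x := by
    intro w'
    obtain ⟨t, ht⟩ := q.left.surjective w'
    obtain ⟨_, ⟨B, hB, rfl⟩, htB, hBO⟩ :=
      W.left.isBasis_affineOpens.exists_subset_of_mem_open (hm _ _ (hpq t)) hO
    refine ⟨B, q.left '' (p.left ⁻¹' (B : Set ↥W.left)), hB.isCompact, hBO,
      q.left.isOpenMap _ (B.2.preimage p.left.continuous), ⟨t, htB, ht⟩, ?_⟩
    rintro _ ⟨s, hs, rfl⟩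
    exact ⟨_, hs, hpq s⟩
  choose B A hB hBO hA hwA hAB using key
  obtain ⟨s, hs⟩ := isCompact_univ.elim_finite_subcover A hA (fun x _ => Set.mem_iUnion.2 ⟨x, hwA x⟩)
  refine ⟨⨆ x ∈ s, B x, ?_, ?_, fun w' => ?_⟩
  · simpa using s.isCompact_biUnion fun x _ => hB x
  · simpa using fun x (_ : x ∈ s) => hBO x
  · obtain ⟨x, hx, hx'⟩ := Set.mem_iUnion₂.1 (hs (Set.mem_univ w'))
    obtain ⟨w, hw, e⟩ := hAB x w' hx'
    exact ⟨w, by simpa using ⟨x, hx, hw⟩, e⟩

theorem isLocalOnSource_fpqc (h : P.IsLocalAtSource Scheme.fpqcPrecoverage) :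
    IsLocalOnSource (IsFpqcCover (S := S)) (LocP P) := by
  refine isLocalOnSource_of Groth.L23.etLocal_flat Scheme.fpqcPrecoverage ?_ (fun _ _ hg => hg.1) ?_ ?_
  · intro T X m hm
    let A : Option PUnit.{u + 1} → Scheme.{u} := fun i => i.elim X fun _ => T
    let l : ∀ i, A i ⟶ X := fun i => match i with
      | none => 𝟙 X
      | some _ => m
    refine ⟨Presieve.ofArrows A l, ⟨?_, ?_⟩, Presieve.ofArrows.mk (some PUnit.unit)⟩
    · let E : PreZeroHypercover.{u} X := ⟨_, A, l⟩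
      refine (Scheme.presieve₀_mem_qcPrecoverage_iff (E := E)).2 ⟨fun {O} hO => ?_⟩
      exact IsCompactOpenCovered.of_finite (f := (E.f ·)) (κ := PUnit.{1}) (fun _ => none) (fun _ => O)
        (fun _ => hO.isCompact)
        (subset_antisymm (Set.iUnion_subset fun _ => by rintro _ ⟨x, hx, rfl⟩; exact hx) fun x hx => Set.mem_iUnion.2 ⟨⟨⟩, x, hx, rfl⟩)
    · rw [Scheme.ofArrows_mem_precoverage_iff]
      refine ⟨fun x => ⟨none, x, rfl⟩, fun i => ?_⟩
      match i with
      | none => exact inferInstanceAs (Flat (𝟙 X))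
      | some _ => exact hm
  · intro ι X Xi g hX hXi hg U a ha W v c hc hv hvQ
    have key : ∀ {O : U.left.Opens}, IsAffineOpen O → ∃ (m : ℕ) (i : Fin m → ι) (V : ∀ j, (W (i j)).left.Opens),
        (∀ j, IsCompact (V j : Set ↥(W (i j)).left)) ∧
          ⋃ j, (v (i j)).left '' (V j : Set ↥(W (i j)).left) = (O : Set ↥U.left) := by
      intro O hO
      let Z : Over S := Over.mk (O.ι ≫ U.hom)
      let o : Z ⟶ U := Over.homMk O.ι rfl
      obtain ⟨m, W', d, hW', -, hds, hl⟩ := hg.2 Z hO ((yon S).map o ≫ a)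
      choose i l hl using hl
      let M : ∀ j, (yon S).obj (W' j) ⟶ pullback (g (i j)) a := fun j =>
        pullback.lift (l j) ((yon S).map (d j ≫ o)) (by rw [hl j, (yon S).map_comp, Category.assoc])
      have hM : ∀ j w w', Points.ofPt (c (i j)) w = Points.ofPt (M j) w' →
          (v (i j)).left w = O.ι ((d j).left w') := by
        intro j w w' e
        have := congrArg (Points.map (pullback.snd (g (i j)) a)) e
        rw [Points.map_ofPt, Points.map_ofPt, ← hv, pullback.lift_snd, Groth.L23.ofPt_map,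
          Groth.L23.ofPt_map] at this
        exact (Points.schemeEquiv U).injective this
      have hV := fun j => exists_compact_open_lift (W' := W' j) (hc (i j)).1 (hc (i j)).2 (M j)
        ((v (i j)).left ⁻¹' (O : Set ↥U.left)) (O.2.preimage (v (i j)).left.continuous)
        (fun w w' e => by
          show (v (i j)).left w ∈ (O : Set ↥U.left)
          rw [hM j w w' e]
          exact Subtype.prop _)
      choose V hVc hVO hVs using fun j => by have := hW' j; exact hV j
      refine ⟨m, i, V, hVc, subset_antisymm (Set.iUnion_subset fun j => Set.image_subset_iff.2 (hVO j))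
        fun t ht => Set.mem_iUnion.2 ?_⟩
      obtain ⟨j, w', hw'⟩ := hds (⟨t, ht⟩ : ↥O.toScheme)
      obtain ⟨w, hw, e⟩ := hVs j w'
      exact ⟨j, w, hw, (hM j w w' e).trans (congrArg O.ι hw')⟩
    refine ⟨?_, ?_⟩
    · let E : PreZeroHypercover.{u} U.left := ⟨_, fun i => (W i).left, fun i => (v i).left⟩
      refine (Scheme.presieve₀_mem_qcPrecoverage_iff (E := E)).2 ⟨fun {O} hO => ?_⟩
      obtain ⟨m, i, V, hV, hVO⟩ := key hO
      exact IsCompactOpenCovered.of_finite (f := (E.f ·)) i V hV hVO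
    · refine (Scheme.ofArrows_mem_precoverage_iff _).2 ⟨fun t => ?_, hvQ⟩
      obtain ⟨_, ⟨O, hO, rfl⟩, ht, -⟩ :=
        U.left.isBasis_affineOpens.exists_subset_of_mem_open (Set.mem_univ t) isOpen_univ
      obtain ⟨m, i, V, -, hVO⟩ := key hO
      obtain ⟨j, w, -, hw⟩ := Set.mem_iUnion.1 ((Set.ext_iff.1 hVO t).2 ht)
      exact ⟨i j, w, hw⟩
  · intro T X χ h1 h2
    exact Scheme.fppfPrecoverage_le_fpqcPrecoverage _ (Scheme.Hom.singleton_mem_fppfPrecoverage χ)

end Groth.L24.Alg
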