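import Groth.Agent.L07.FlatStage
import Groth.Agent.L23.EtaleAlgDescent
import Mathlib.RingTheory.Extension.Presentation.Core

/-!
Flat algebras of finite presentation are defined over finitely generated subalgebras.
-/

universe u

open TensorProduct

namespace Groth.L24.Alg

open Groth.L07.FlatDescent

theorem exists_subalgebra_fg_flat (A : Type*) {B : Type u} (C : Type u) [CommRing A] [CommRing B] [CommRing C]
    [Algebra A B] [Algebra B C] [Algebra.FinitePresentation B C] [Module.Flat B C] :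
    ∃ (B₀ : Subalgebra A B) (C₀ : Type u) (_ : CommRing C₀) (_ : Algebra B₀ C₀),
      B₀.FG ∧ Algebra.FinitePresentation B₀ C₀ ∧ Module.Flat B₀ C₀ ∧ Nonempty (C ≃ₐ[B] B ⊗[B₀] C₀) := by
  classical
  let P := Algebra.Presentation.ofFinitePresentation B C
  let A₀ : Subalgebra A B := Algebra.adjoin A P.coeffs
  haveI : P.HasCoeffs A₀ := ⟨fun x hx => ⟨⟨x, Algebra.subset_adjoin hx⟩, rfl⟩⟩
  let M₀ := P.ModelOfHasCoeffs A₀
  let eB : B ⊗[A₀] M₀ ≃ₐ[B] C := P.tensorModelOfHasCoeffsEquiv A₀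
  obtain ⟨d, n, R, _, K, ⟨e⟩⟩ := exists_model A₀ (B₀ := M₀) M₀
  haveI : IsScalarTower R A₀ B := .of_algebraMap_eq fun _ => rfl
  obtain ⟨eK⟩ := exists_modelEquiv K e B
  haveI : Module.Flat B (B ⊗[A₀] M₀) := Module.Flat.of_linearEquiv eB.toLinearEquiv
  haveI : Module.Flat B (MC B K) := Module.Flat.of_linearEquiv eK.symm
  obtain ⟨B', hB', hflat⟩ := exists_fg_stage K B
  obtain ⟨G, hG⟩ := hB'
  let A₁ : Subalgebra A B := A₀ ⊔ Algebra.adjoin A (G : Set B)
  have hle : A₀ ≤ A₁ := le_sup_left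
  letI : Algebra A₀ A₁ := (Subalgebra.inclusion hle).toRingHom.toAlgebra
  haveI : IsScalarTower A₀ A₁ B := .of_algebraMap_eq fun _ => rfl
  haveI : IsScalarTower R A₀ A₁ := .of_algebraMap_eq fun _ => rfl
  have hB'A₁ : ∀ x : B', (x : B) ∈ A₁ := by
    rintro ⟨x, hx⟩
    rw [← hG] at hx
    refine Algebra.adjoin_induction (p := fun x _ => x ∈ A₁) (fun y hy => le_sup_right (a := A₀) (Algebra.subset_adjoin hy))
      (fun r => ?_) (fun _ _ _ _ => add_mem) (fun _ _ _ _ => mul_mem) hx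
    exact hle (algebraMap R A₀ r).2
  let ι : B' →+* A₁ :=
    { toFun := fun x => ⟨x, hB'A₁ x⟩
      map_one' := rfl
      map_mul' := fun _ _ => rfl
      map_zero' := rfl
      map_add' := fun _ _ => rfl }
  letI : Algebra B' A₁ := ι.toAlgebra
  haveI : IsScalarTower R B' A₁ := .of_algebraMap_eq fun _ => rfl
  obtain ⟨e₁⟩ := exists_modelEquiv K e A₁
  haveI := flat_MC_of_flat K (A := B') (C := A₁)
  refine ⟨A₁, A₁ ⊗[A₀] M₀, inferInstance, inferInstance, ?_, inferInstance, Module.Flat.of_linearEquiv e₁, ?_⟩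
  · refine Subalgebra.FG.sup ⟨P.finite_coeffs.toFinset, ?_⟩ ⟨G, rfl⟩
    simp [A₀]
  · exact ⟨eB.symm.trans (Algebra.TensorProduct.cancelBaseChange A₀ A₁ B B M₀).symm⟩

end Groth.L24.Alg
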