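import Groth.Agent.L24.Alg.SpaceSource

/-!
Properties etale local for charts are local on the source for etale coverings of algebraic spaces.
-/

universe u

open CategoryTheory CategoryTheory.Limits AlgebraicGeometry AlgSp

set_option backward.isDefEq.respectTransparency false
set_option backward.isDefEq.respectTransparency.types false

namespace Groth.L24.Alg

variable {S : Scheme.{u}}

theorem isLocalAtSource_etale_of_etLocal {P : MorphismProperty Scheme.{u}} (hP : Groth.L23.EtLocal P)
    [IsZariskiLocalAtSource P] : P.IsLocalAtSource Scheme.etalePrecoverage := by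
  have := hP.comp
  refine MorphismProperty.IsLocalAtSource.mk_of_iff fun {X Y} f R hR => ?_
  obtain ⟨𝒰, rfl⟩ := R.exists_eq_preZeroHypercover
  obtain ⟨hs, he⟩ := (Scheme.ofArrows_mem_precoverage_iff _).1 hR
  constructor
  · rintro h _ _ ⟨i⟩
    exact P.comp_mem _ _ (hP.etale _ (he i)) h
  · intro h
    choose i hi using hs
    let π : ∐ (fun x : X => 𝒰.X (i x)) ⟶ X := Sigma.desc fun x => 𝒰.f (i x)
    have h1 : Etale π := IsZariskiLocalAtSource.sigmaDesc fun x => he (i x)
    have h3 : Surjective π := ⟨fun x => by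
      obtain ⟨w, hw⟩ := hi x
      exact ⟨Sigma.ι (fun x : X => 𝒰.X (i x)) x w, by rw [← Scheme.Hom.comp_apply, Sigma.ι_desc, hw]⟩⟩
    refine hP.source π f h1 h3 ?_
    rw [show π ≫ f = Sigma.desc fun x => 𝒰.f (i x) ≫ f from by ext x; simp [π]]
    exact IsZariskiLocalAtSource.sigmaDesc fun x => h ⟨i x⟩

theorem isLocalOnSource_etale_locP {P : MorphismProperty Scheme.{u}} (hP : Groth.L23.EtLocal P)
    [IsZariskiLocalAtSource P] : IsLocalOnSource (IsEtCover (S := S)) (LocP P) :=
  isLocalOnSource_etale (isLocalAtSource_etale_of_etLocal hP)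

theorem isLocalOnSource_etale_isEtaleMor : IsLocalOnSource (IsEtCover (S := S)) (IsEtaleMor (S := S)) := by
  intro ι X Xi g hX hXi hg Y f hY
  rw [Groth.L23.isEtaleMor_iff_locP hX hY]
  refine (isLocalOnSource_etale_locP Groth.L23.etLocal_etale Xi g hX hXi hg f hY).trans (forall_congr' fun i => ?_)
  exact (Groth.L23.isEtaleMor_iff_locP (hXi i) hY _).symm

end Groth.L24.Alg
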