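import Groth.Agent.L24.Alg.FlatModel
import Groth.Agent.L23.EtaleLift
import Mathlib.RingTheory.Etale.Descent

/-!
Descent of finite type and finite presentation along faithfully flat algebras of finite presentation.
-/

universe u

open TensorProduct

namespace Groth.L24.Alg

variable {A B C : Type u} [CommRing A] [CommRing B] [CommRing C] [Algebra A B] [Algebra B C]
  [Algebra A C] [IsScalarTower A B C]

/-- Finite type descends along faithfully flat algebras of finite presentation. -/
theorem finiteType_of_flat_comp [Algebra.FinitePresentation B C] [Module.FaithfullyFlat B C]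
    [Algebra.FiniteType A C] : Algebra.FiniteType A B := by
  classical
  obtain ⟨B₀, C₀, _, _, hB₀, hC₀, hflat₀, ⟨e⟩⟩ := exists_subalgebra_fg_flat A (B := B) C
  -- the open image upstairs contains the image of `Spec B`
  let U := Set.range (PrimeSpectrum.comap (algebraMap B₀ C₀))
  have hU : IsOpen U := PrimeSpectrum.isOpenMap_comap_of_hasGoingDown_of_finitePresentation.isOpen_range
  obtain ⟨I, hI⟩ := (PrimeSpectrum.isClosed_iff_zeroLocus_ideal Uᶜ).1 hU.isClosed_compl
  have hIB : I.map (algebraMap B₀ B) = ⊤ := by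
    by_contra hne
    obtain ⟨m, hm, hle⟩ := Ideal.exists_le_maximal _ hne
    obtain ⟨Q, hQ⟩ := PrimeSpectrum.comap_surjective_of_faithfullyFlat (B := C) (⟨m, hm.isPrime⟩ : PrimeSpectrum B)
    let φ : C₀ →+* C := (e.symm : B ⊗[B₀] C₀ →+* C).comp Algebra.TensorProduct.includeRight.toRingHom
    have hφ : φ.comp (algebraMap B₀ C₀) = (algebraMap B C).comp (algebraMap B₀ B) := by
      ext x
      simp only [φ, RingHom.comp_apply, AlgHom.toRingHom_eq_coe, RingHom.coe_coe,
        Algebra.TensorProduct.includeRight_apply, ← e.symm.commutes,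
        Algebra.TensorProduct.algebraMap_apply, Algebra.algebraMap_self_apply]
      congr 1
      rw [Algebra.algebraMap_eq_smul_one (A := C₀), Algebra.algebraMap_eq_smul_one (A := B),
        TensorProduct.tmul_smul, TensorProduct.smul_tmul']
    have hmem : PrimeSpectrum.comap (algebraMap B₀ B) ⟨m, hm.isPrime⟩ ∈ U :=
      ⟨PrimeSpectrum.comap φ Q, by
        rw [← PrimeSpectrum.comap_comp_apply, hφ, PrimeSpectrum.comap_comp_apply, hQ]⟩
    have : PrimeSpectrum.comap (algebraMap B₀ B) ⟨m, hm.isPrime⟩ ∈ Uᶜ := by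
      rw [hI]; exact Ideal.map_le_iff_le_comap.1 hle
    exact this hmem
  have h1 : (1 : B) ∈ Submodule.span B (algebraMap B₀ B '' I) := by
    change (1 : B) ∈ I.map (algebraMap B₀ B)
    rw [hIB]; trivial
  obtain ⟨T, hT, h1'⟩ := Submodule.mem_span_finite_of_mem_span h1
  obtain ⟨coef, -, hcoef⟩ := Submodule.mem_span_finset.1 h1'
  obtain ⟨G, hG⟩ := Algebra.FiniteType.out (R := A) (A := C)
  choose S hS using fun c : C => TensorProduct.exists_finset (e c)
  let E : Finset B := T.image coef ∪ G.biUnion (fun c => (S c).image Prod.fst)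
  let B₁ : Subalgebra A B := B₀ ⊔ Algebra.adjoin A (E : Set B)
  have hB₁ : B₁.FG := hB₀.sup ⟨E, rfl⟩
  have hle : B₀ ≤ B₁ := le_sup_left
  let _ : Algebra B₀ B₁ := (Subalgebra.inclusion hle).toRingHom.toAlgebra
  have : IsScalarTower B₀ B₁ B := .of_algebraMap_eq fun x => rfl
  have : IsScalarTower A B₀ B₁ := .of_algebraMap_eq fun x => rfl
  have hE : ∀ x ∈ E, x ∈ B₁ := fun x hx =>
    le_sup_right (a := B₀) (Algebra.subset_adjoin hx)
  have : Module.FaithfullyFlat B₁ (B₁ ⊗[B₀] C₀) := by
    refine Groth.L23.faithfullyFlat_baseChange_of_range fun q => ?_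
    by_contra hq
    have hq' : PrimeSpectrum.comap (algebraMap B₀ B₁) q ∈ Uᶜ := hq
    rw [hI] at hq'
    have hI' : ∀ x ∈ I, algebraMap B₀ B₁ x ∈ q.asIdeal := fun x hx => hq' hx
    have hmem : ∀ x ∈ T, ∃ y ∈ q.asIdeal, (y : B) = coef x • x := fun x hx => by
      obtain ⟨i, hi, rfl⟩ := hT hx
      exact ⟨⟨coef _, hE _ (Finset.mem_union_left _ (Finset.mem_image_of_mem _ hx))⟩ * algebraMap B₀ B₁ i,
        q.asIdeal.mul_mem_left _ (hI' i hi), rfl⟩
    choose y hy hy' using hmem
    refine q.isPrime.ne_top ((Ideal.eq_top_iff_one _).2 ?_)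
    rw [show (1 : B₁) = ∑ x ∈ T.attach, y x.1 x.2 by
      apply Subtype.ext
      rw [AddSubmonoidClass.coe_finsetSum]
      simp only [hy', OneMemClass.coe_one]
      rw [Finset.sum_attach T (fun x => coef x • x)]
      exact hcoef.symm]
    exact q.asIdeal.sum_mem fun x _ => hy x.1 x.2
  -- the model surjects onto `C`
  let ι' : B₁ →ₐ[B₀] B := IsScalarTower.toAlgHom B₀ B₁ B
  let Φ : B₁ ⊗[B₀] C₀ →ₐ[B₁] B ⊗[B₀] C₀ :=
    Algebra.TensorProduct.map (IsScalarTower.toAlgHom B₁ B₁ B) (AlgHom.id B₀ C₀)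
  have hΦ : Function.Surjective Φ := by
    intro z
    obtain ⟨c, rfl⟩ := e.surjective z
    have hc : c ∈ Algebra.adjoin A (G : Set C) := by rw [hG]; trivial
    induction hc using Algebra.adjoin_induction with
    | mem c hc =>
      rw [hS c]
      refine ⟨∑ p ∈ (S c).attach, (⟨p.1.1, hE _ (Finset.mem_union_right _
        (Finset.mem_biUnion.2 ⟨c, hc, Finset.mem_image_of_mem _ p.2⟩))⟩ : B₁) ⊗ₜ[B₀] p.1.2, ?_⟩
      rw [← Finset.sum_attach (S c) (fun p => p.1 ⊗ₜ[B₀] p.2), map_sum]
      exact Finset.sum_congr rfl fun _ _ => rfl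
    | algebraMap r =>
      refine ⟨algebraMap A B₁ r ⊗ₜ 1, ?_⟩
      rw [IsScalarTower.algebraMap_apply A B C, e.commutes]
      rfl
    | add x y _ _ hx hy =>
      obtain ⟨a, ha⟩ := hx; obtain ⟨b, hb⟩ := hy
      exact ⟨a + b, by simp [ha, hb]⟩
    | mul x y _ _ hx hy =>
      obtain ⟨a, ha⟩ := hx; obtain ⟨b, hb⟩ := hy
      exact ⟨a * b, by simp [ha, hb]⟩
  have hsurj : Function.Surjective (Algebra.linearMap B₁ B) := by
    rw [← Module.FaithfullyFlat.lTensor_surjective_iff_surjective B₁ (B₁ ⊗[B₀] C₀)]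
    intro y
    let ec := AlgebraTensorModule.cancelBaseChange B₀ B₁ B₁ B C₀
    obtain ⟨x, hx⟩ := hΦ (ec (TensorProduct.comm B₁ _ B y))
    refine ⟨x ⊗ₜ 1, (TensorProduct.comm B₁ _ B).injective (ec.injective ?_)⟩
    rw [← hx, LinearMap.lTensor_tmul, TensorProduct.comm_tmul]
    clear hx
    induction x with
    | zero => exact ((congrArg ec (TensorProduct.tmul_zero _ _)).trans ec.map_zero).trans Φ.map_zero'.symm
    | add a b ha hb =>
      exact ((congrArg ec (TensorProduct.tmul_add _ a b)).trans (ec.map_add _ _)).trans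
        ((congrArg₂ (· + ·) ha hb).trans (Φ.map_add' a b).symm)
    | tmul b c =>
      simp [ec, Φ, Algebra.smul_def]
      rfl
  have htop : B₁ = ⊤ := by
    refine eq_top_iff.2 fun b _ => ?_
    obtain ⟨x, rfl⟩ := hsurj b
    exact x.2
  exact ⟨htop ▸ hB₁⟩

/-- Finite presentation descends along faithfully flat algebras of finite presentation. -/
theorem finitePresentation_of_flat_comp [Algebra.FinitePresentation B C] [Module.FaithfullyFlat B C]
    [Algebra.FinitePresentation A C] : Algebra.FinitePresentation A B := by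
  classical
  have : Algebra.FiniteType A B := finiteType_of_flat_comp (C := C)
  obtain ⟨B₀, C₀, _, _, hB₀, hC₀, hflat₀, ⟨e⟩⟩ := exists_subalgebra_fg_flat ℤ (B := B) C
  have : Algebra.FiniteType ℤ B₀ := B₀.fg_iff_finiteType.mp hB₀
  have : Algebra.FinitePresentation ℤ B₀ := Algebra.FinitePresentation.of_finiteType.mp inferInstance
  obtain ⟨n, f, hf⟩ := Algebra.FiniteType.iff_quotient_mvPolynomial''.mp (inferInstance : Algebra.FiniteType A B)
  obtain ⟨m, g, hg, s, hs⟩ := Algebra.FinitePresentation.out (R := ℤ) (A := B₀)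
  choose v hv using fun k : Fin m => hf (g (MvPolynomial.X k) : B₀).1
  let h : MvPolynomial (Fin m) ℤ →+* MvPolynomial (Fin n) A := (MvPolynomial.aeval v).toRingHom
  have hfh : (f.toRingHom.comp h) = (algebraMap B₀ B).comp g.toRingHom :=
    MvPolynomial.ringHom_ext (fun r => by simp [h]) (fun k => by
      simp only [h, RingHom.comp_apply, AlgHom.toRingHom_eq_coe, RingHom.coe_coe, MvPolynomial.aeval_X]
      exact hv k)
  let J : Ideal (MvPolynomial (Fin n) A) := Ideal.span (s.image h : Finset _)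
  have hJ : ∀ x ∈ J, f x = 0 := by
    intro x hx
    have : J ≤ RingHom.ker f.toRingHom := Ideal.span_le.2 fun y hy => by
      obtain ⟨r, hr, rfl⟩ := Finset.mem_image.1 (Finset.mem_coe.1 hy)
      have hr0 : g r = 0 := (hs ▸ Ideal.subset_span hr : r ∈ RingHom.ker g.toRingHom)
      exact (DFunLike.congr_fun hfh r).trans (by simp [hr0])
    exact this hx
  let P₀ := MvPolynomial (Fin n) A ⧸ J
  have : Algebra.FinitePresentation A P₀ := Algebra.FinitePresentation.quotient ⟨_, rfl⟩
  let π₀ : P₀ →ₐ[A] B := Ideal.Quotient.liftₐ J f hJ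
  let h₀ : MvPolynomial (Fin m) ℤ →ₐ[ℤ] P₀ := ((Ideal.Quotient.mk J).comp h).toIntAlgHom
  have hle : RingHom.ker g.toRingHom ≤ RingHom.ker h₀.toRingHom := by
    rw [← hs, Ideal.span_le]
    exact fun r hr => Ideal.Quotient.eq_zero_iff_mem.2 (Ideal.subset_span (Finset.mem_image_of_mem h hr))
  let σ : B₀ →ₐ[ℤ] P₀ := AlgHom.liftOfSurjective g hg h₀ hle
  have hσ : ∀ b, π₀ (σ b) = algebraMap B₀ B b := by
    intro b
    obtain ⟨r, rfl⟩ := hg b
    rw [AlgHom.liftOfSurjective_apply]
    exact DFunLike.congr_fun hfh r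
  letI : Algebra B₀ P₀ := σ.toRingHom.toAlgebra
  -- the image of the model is open and its complement misses `B`
  let U := Set.range (PrimeSpectrum.comap (algebraMap B₀ C₀))
  have hU : IsOpen U := PrimeSpectrum.isOpenMap_comap_of_hasGoingDown_of_finitePresentation.isOpen_range
  obtain ⟨I, hI⟩ := (PrimeSpectrum.isClosed_iff_zeroLocus_ideal Uᶜ).1 hU.isClosed_compl
  let φ : C₀ →+* C := (e.symm : B ⊗[B₀] C₀ →+* C).comp Algebra.TensorProduct.includeRight.toRingHom
  have hφ : φ.comp (algebraMap B₀ C₀) = (algebraMap B C).comp (algebraMap B₀ B) := by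
    ext x
    simp only [φ, RingHom.comp_apply, AlgHom.toRingHom_eq_coe, RingHom.coe_coe,
      Algebra.TensorProduct.includeRight_apply, ← e.symm.commutes,
      Algebra.TensorProduct.algebraMap_apply, Algebra.algebraMap_self_apply]
    congr 1
    rw [Algebra.algebraMap_eq_smul_one (A := C₀), Algebra.algebraMap_eq_smul_one (A := B),
      TensorProduct.tmul_smul, TensorProduct.smul_tmul']
  have hIB : I.map (algebraMap B₀ B) = ⊤ := by
    by_contra hne
    obtain ⟨q, hq, hle'⟩ := Ideal.exists_le_maximal _ hne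
    obtain ⟨Q, hQ⟩ := PrimeSpectrum.comap_surjective_of_faithfullyFlat (B := C) (⟨q, hq.isPrime⟩ : PrimeSpectrum B)
    have hmem : PrimeSpectrum.comap (algebraMap B₀ B) ⟨q, hq.isPrime⟩ ∈ U :=
      ⟨PrimeSpectrum.comap φ Q, by
        rw [← PrimeSpectrum.comap_comp_apply, hφ, PrimeSpectrum.comap_comp_apply, hQ]⟩
    have : PrimeSpectrum.comap (algebraMap B₀ B) ⟨q, hq.isPrime⟩ ∈ Uᶜ := by
      rw [hI]; exact Ideal.map_le_iff_le_comap.1 hle'
    exact this hmem
  have hπ₀ : Function.Surjective π₀ := fun b => by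
    obtain ⟨p, rfl⟩ := hf b
    exact ⟨Ideal.Quotient.mk J p, rfl⟩
  have hmap : (I.map σ.toRingHom).map π₀.toRingHom = ⊤ := by
    rw [Ideal.map_map, show π₀.toRingHom.comp σ.toRingHom = algebraMap B₀ B from RingHom.ext hσ, hIB]
  obtain ⟨j, hj, hπj⟩ := (Ideal.mem_map_iff_of_surjective _ hπ₀).1 ((Ideal.eq_top_iff_one _).1 hmap)
  let P := Localization.Away j
  have : Algebra.FinitePresentation P₀ P := Algebra.Smooth.of_isLocalization_Away j |>.finitePresentation
  have : Algebra.FinitePresentation A P := .trans A P₀ P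
  let π : P →ₐ[A] B := IsLocalization.liftAlgHom (M := Submonoid.powers j) (f := π₀)
    (fun ⟨y, k, hy⟩ => by subst hy; simp [show π₀ j = 1 from hπj])
  have hπ : ∀ a, π (algebraMap P₀ P a) = π₀ a := fun a => IsLocalization.lift_eq _ a
  have hπs : Function.Surjective π := fun b => by
    obtain ⟨a, rfl⟩ := hπ₀ b
    exact ⟨_, hπ a⟩
  letI : Algebra P B := π.toRingHom.toAlgebra
  have : IsScalarTower A P B := .of_algebraMap_eq fun a => (π.commutes a).symm
  have : IsScalarTower B₀ P B := .of_algebraMap_eq fun b => by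
    rw [RingHom.algebraMap_toAlgebra, IsScalarTower.algebraMap_apply B₀ P₀ P]
    exact ((hπ _).trans (hσ b)).symm
  let D := P ⊗[B₀] C₀
  have hD : Module.FaithfullyFlat P D := by
    refine Groth.L23.faithfullyFlat_baseChange_of_range fun q => ?_
    by_contra hq
    have hq' : PrimeSpectrum.comap (algebraMap B₀ P) q ∈ Uᶜ := hq
    rw [hI] at hq'
    have hjq : algebraMap P₀ P j ∈ q.asIdeal := by
      have hle' : I.map σ.toRingHom ≤ q.asIdeal.comap (algebraMap P₀ P) := by
        refine Ideal.map_le_iff_le_comap.2 fun x hx => ?_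
        have := hq' hx
        rwa [PrimeSpectrum.comap_asIdeal, SetLike.mem_coe, Ideal.mem_comap, IsScalarTower.algebraMap_apply B₀ P₀ P] at this
      exact hle' hj
    exact q.isPrime.ne_top (Ideal.eq_top_of_isUnit_mem _ hjq (IsLocalization.Away.algebraMap_isUnit j))
  have : Algebra.FinitePresentation A D := .trans A P D
  let eC : C ≃ₐ[A] B ⊗[P] D :=
    ((e.trans (Algebra.TensorProduct.cancelBaseChange B₀ P B B C₀).symm).restrictScalars A)
  have : Algebra.FinitePresentation A (B ⊗[P] D) := Algebra.FinitePresentation.equiv (R := A) (A := C) (B := B ⊗[P] D) eC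
  obtain ⟨hker, hsurj⟩ := Groth.L23.ker_includeRight_of_surjective (P := P) (B := B) (M := D) hπs
  let ψ : D →ₐ[A] B ⊗[P] D := (Algebra.TensorProduct.includeRight : D →ₐ[P] B ⊗[P] D).restrictScalars A
  have hfg : ((RingHom.ker (algebraMap P B)).map (algebraMap P D)).FG := by
    rw [← hker]
    exact Algebra.FinitePresentation.ker_fG_of_surjective (R := A) (A := D) (B := B ⊗[P] D) ψ hsurj
  exact .of_surjective (f := π) hπs (Ideal.FG.of_FG_map_of_faithfullyFlat (S := D) hfg)

end Groth.L24.Alg
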